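import Groth.Agent.FlasqueSupp.Core
import Groth.Agent.SiteBase.DerivedKernel
import Groth.Agent.SiteBase.DerivedPrecomp
import Groth.Agent.SiteBase.ExtByZero

/-!
# Local cohomology sheaves and higher direct images from the open complement
-/

set_option autoImplicit false
set_option linter.style.haveILetI false
set_option backward.isDefEq.respectTransparency false
set_option backward.isDefEq.respectTransparency.types false

universe u

open CategoryTheory CategoryTheory.Limits Opposite TopologicalSpace TopCat

noncomputable section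

namespace Groth.Agent.LocCohZSh

theorem isContinuous_opensMap {A B : TopCat.{u}} (g : A ⟶ B) :
    (Opens.map g).IsContinuous (Opens.grothendieckTopology B) (Opens.grothendieckTopology A) := inferInstance

theorem pull_additive' {A B : TopCat.{u}} (g : A ⟶ B) : (CohTop.pull g).Additive :=
  haveI : PreservesFiniteLimits (CohTop.pull g) := SiteBase.preservesFiniteLimits_pull g
  Functor.additive_of_preserves_binary_products _

theorem comp_additive' {A B : TopCat.{u}} (g : A ⟶ B) : (CohTop.pull g ⋙ CohTop.push g).Additive :=
  haveI : PreservesFiniteLimits (CohTop.pull g) := SiteBase.preservesFiniteLimits_pull g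
  haveI := (TopCat.Sheaf.pullbackPushforwardAdjunction AddCommGrpCat.{u} g).isRightAdjoint
  haveI : PreservesFiniteLimits (CohTop.push g) := inferInstance
  haveI : PreservesFiniteLimits (CohTop.pull g ⋙ CohTop.push g) := comp_preservesFiniteLimits _ _
  Functor.additive_of_preserves_binary_products _

variable {X : TopCat.{u}} (U : Opens X)

/-- Restriction is left adjoint to direct image. -/
def restrPushAdj : CohTop.restrFunctor U ⊣ CohTop.push (CohCx.incl U) :=
  have H : Topology.IsOpenEmbedding (CohCx.incl U) := U.isOpenEmbedding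
  haveI := H.functor_isContinuous
  haveI := isContinuous_opensMap (CohCx.incl U)
  (H.isOpenMap.adjunction).sheafPushforwardContinuous
    (Opens.grothendieckTopology (TopCat.of U)) (Opens.grothendieckTopology X)

/-- Pullback to an open subspace is restriction. -/
def pullIsoRestr : CohTop.pull (CohCx.incl U) ≅ CohTop.restrFunctor U :=
  (TopCat.Sheaf.pullbackPushforwardAdjunction AddCommGrpCat.{u} (CohCx.incl U)).leftAdjointUniq (restrPushAdj U)

theorem preservesInjectiveObjects_pull : (CohTop.pull (CohCx.incl U)).PreservesInjectiveObjects := by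
  refine ⟨fun {I} hI => ?_⟩
  haveI := ExtByZero.preservesFiniteLimits_ext0 U
  haveI : (ExtByZero.ext0 U).PreservesMonomorphisms := preservesMonomorphisms_of_preservesLimitsOfShape _
  exact Injective.of_iso ((pullIsoRestr U).app I).symm ((ExtByZero.adj U).map_injective I hI)

theorem epi_unit_of_flasque (F : CohTop.Ab X) [hF : TopCat.Sheaf.IsFlasque F] :
    Epi ((TopCat.Sheaf.pullbackPushforwardAdjunction AddCommGrpCat.{u} (CohCx.incl U)).unit.app F) := by
  have h := (restrPushAdj U).unit_leftAdjointUniq_hom_app
    (TopCat.Sheaf.pullbackPushforwardAdjunction AddCommGrpCat.{u} (CohCx.incl U)) F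
  rw [← h]
  haveI : Epi ((restrPushAdj U).unit.app F) := by
    refine (TopCat.Sheaf.isLocallySurjective_iff_epi _).1
      ((TopCat.Presheaf.isLocallySurjective_iff _).2 fun V t y hy => ⟨V, le_rfl, ?_, hy⟩)
    obtain ⟨s, hs⟩ := (AddCommGrpCat.epi_iff_surjective _).1
      (hF.epi ((show Topology.IsOpenEmbedding (CohCx.incl U) from U.isOpenEmbedding).isOpenMap.adjunction.counit.app V).op) t
    refine ⟨s, Eq.trans ?_ (hs.trans ?_)⟩
    · simp [restrPushAdj]
      rfl
    · simp [TopCat.Presheaf.restrictOpen, TopCat.Presheaf.restrict]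
      rfl
  exact epi_comp _ _

instance push_additive : (CohTop.push (CohCx.incl U)).Additive := inferInstance

instance push_preservesFiniteLimits : PreservesFiniteLimits (CohTop.push (CohCx.incl U)) :=
  haveI := (TopCat.Sheaf.pullbackPushforwardAdjunction AddCommGrpCat.{u} (CohCx.incl U)).isRightAdjoint
  inferInstance

instance pull_additive : (CohTop.pull (CohCx.incl U)).Additive := pull_additive' _

instance comp_additive : (CohTop.pull (CohCx.incl U) ⋙ CohTop.push (CohCx.incl U)).Additive := comp_additive' _

instance pull_preservesFiniteColimits : PreservesFiniteColimits (CohTop.pull (CohCx.incl U)) :=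
  haveI := (TopCat.Sheaf.pullbackPushforwardAdjunction AddCommGrpCat.{u} (CohCx.incl U)).isLeftAdjoint
  inferInstance

instance pull_preservesFiniteLimits : PreservesFiniteLimits (CohTop.pull (CohCx.incl U)) :=
  SiteBase.preservesFiniteLimits_pull _

instance comp_preserves : PreservesFiniteLimits (CohTop.pull (CohCx.incl U) ⋙ CohTop.push (CohCx.incl U)) :=
  comp_preservesFiniteLimits _ _

/-- The inclusion of sections with supports. -/
def ι : LocCohZ.sectSuppF U ⟶ 𝟭 (CohTop.Ab X) where
  app F := kernel.ι ((TopCat.Sheaf.pullbackPushforwardAdjunction AddCommGrpCat.{u} (CohCx.incl U)).unit.app F)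
  naturality _ _ _ := kernel.lift_ι _ _ _

theorem main :
    Nonempty (LocCohZ.HZsh U 1 ≅
      cokernel (TopCat.Sheaf.pullbackPushforwardAdjunction AddCommGrpCat.{u} (CohCx.incl U)).unit) ∧
      ∀ i : ℕ, 1 ≤ i →
        Nonempty (LocCohZ.HZsh U (i + 1) ≅ CohTop.pull (CohCx.incl U) ⋙ CohTop.Rpush (CohCx.incl U) i) := by
  haveI := FlasqueSupp.preservesFiniteLimits_sectSuppF U
  have hη : ∀ F : CohTop.Ab X, Injective F →
      Epi ((TopCat.Sheaf.pullbackPushforwardAdjunction AddCommGrpCat.{u} (CohCx.incl U)).unit.app F) := fun F hF => by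
    haveI := hF
    haveI := SiteBase.isFlasque_of_injective F
    exact epi_unit_of_flasque U F
  refine ⟨SiteBase.nonempty_rightDerived_one_iso (P := CohTop.pull (CohCx.incl U) ⋙ CohTop.push (CohCx.incl U)) (ι U)
      (TopCat.Sheaf.pullbackPushforwardAdjunction AddCommGrpCat.{u} (CohCx.incl U)).unit
      (fun F => kernel.condition _) (fun F => kernelIsKernel _) hη, fun i hi => ?_⟩
  obtain ⟨q, rfl⟩ : ∃ q, i = q + 1 := ⟨i - 1, by omega⟩
  obtain ⟨e⟩ := SiteBase.nonempty_rightDerived_succ_iso (P := CohTop.pull (CohCx.incl U) ⋙ CohTop.push (CohCx.incl U)) (ι U)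
      (TopCat.Sheaf.pullbackPushforwardAdjunction AddCommGrpCat.{u} (CohCx.incl U)).unit
      (fun F => kernel.condition _) (fun F => kernelIsKernel _) hη q
  haveI := preservesInjectiveObjects_pull U
  exact ⟨e ≪≫ SiteBase.rightDerivedPrecompIso (CohTop.pull (CohCx.incl U)) (CohTop.push (CohCx.incl U)) (q + 1)⟩

end Groth.Agent.LocCohZSh
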