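import Groth.Agent.LocCohZSh.Core
import Groth.Agent.SpObjSS.SiteLeray
import Groth.Agent.GrLib8.SuppFlasque

/-!
# The local-to-global spectral sequence for cohomology with supports
-/

set_option autoImplicit false
set_option linter.style.haveILetI false
set_option backward.isDefEq.respectTransparency false
set_option backward.isDefEq.respectTransparency.types false

universe u

open CategoryTheory CategoryTheory.Limits Opposite TopologicalSpace TopCat

noncomputable section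

namespace Groth.Agent.LocCohZSh

open SpObjSS

variable {X : TopCat.{u}} (U : Opens X)

local notation "JX" => Opens.grothendieckTopology X

theorem lift_cond (F : CohTop.Ab X) (a : LocCohZ.zq (le_top : U ≤ ⊤) ⟶ F) :
    (cokernel.π (CohCx.freeSheafMap JX (homOfLE (le_top : U ≤ (⊤ : Opens X)))) ≫ a) ≫
      (TopCat.Sheaf.pullbackPushforwardAdjunction AddCommGrpCat.{u} (CohCx.incl U)).unit.app F = 0 := by
  apply (CohFree.homEquivSect JX ⊤ _).injective
  refine Eq.trans ?_ (map_zero _).symm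
  show (((TopCat.Sheaf.pullbackPushforwardAdjunction AddCommGrpCat.{u} (CohCx.incl U)).unit.app F).hom.app
    (op (⊤ : Opens X))).hom (CohFree.evalGen JX ⊤ F (cokernel.π _ ≫ a)) = 0
  rw [SuppFamLib.unit_app_eq_zero_iff]
  have h0 : F.obj.map (homOfLE (le_top : U ≤ (⊤ : Opens X))).op (CohFree.evalGen JX ⊤ F (cokernel.π _ ≫ a)) = 0 := by
    refine (CohFree.evalGen_freeSheafMap_comp JX (homOfLE (le_top : U ≤ (⊤ : Opens X))) F (cokernel.π _ ≫ a)).symm.trans ?_
    rw [cokernel.condition_assoc, zero_comp, map_zero]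
  rw [← SuppFamLib.res_res F (le_top : U ≤ (⊤ : Opens X)) (inf_le_left : U ⊓ ⊤ ≤ U), h0, map_zero]

/-- Morphisms out of `ℤ_X/ℤ_U` are global sections with supports. -/
def homZqHom (F : CohTop.Ab X) :
    (LocCohZ.zq (le_top : U ≤ ⊤) ⟶ F) →+ (CohCx.freeSheaf JX (⊤ : Opens X) ⟶ (LocCohZ.sectSuppF U).obj F) :=
  AddMonoidHom.mk' (fun a => kernel.lift _ (cokernel.π _ ≫ a) (lift_cond U F a)) fun a b => by
    rw [← cancel_mono (kernel.ι _)]
    simp only [kernel.lift_ι, Preadditive.comp_add, Preadditive.add_comp]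

theorem homZqHom_ι (F : CohTop.Ab X) (a : LocCohZ.zq (le_top : U ≤ ⊤) ⟶ F) :
    homZqHom U F a ≫ kernel.ι _ = cokernel.π _ ≫ a := kernel.lift_ι _ _ _

theorem homZqHom_bijective (F : CohTop.Ab X) : Function.Bijective (homZqHom U F) := by
  refine ⟨fun a b h => ?_, fun φ => ?_⟩
  · rw [← cancel_epi (cokernel.π (CohCx.freeSheafMap JX (homOfLE (le_top : U ≤ (⊤ : Opens X))))), ← homZqHom_ι, h,
      homZqHom_ι]
  · let s := CohFree.evalGen JX ⊤ F (φ ≫ kernel.ι _)
    have hs : F.obj.map (homOfLE (inf_le_right : U ⊓ ⊤ ≤ ⊤)).op s = 0 :=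
      (FlasqueSupp.range_incl U F ⊤ s).1 ⟨CohFree.evalGen JX ⊤ _ φ, rfl⟩
    have hz : CohCx.freeSheafMap JX (homOfLE (le_top : U ≤ (⊤ : Opens X))) ≫ φ ≫ kernel.ι _ = 0 := by
      apply (CohFree.homEquivSect JX U F).injective
      refine Eq.trans ?_ (map_zero _).symm
      rw [CohFree.homEquivSect_apply]
      rw [CohFree.evalGen_freeSheafMap_comp]
      have := congrArg (fun z => F.obj.map (homOfLE (le_inf le_rfl le_top : U ≤ U ⊓ ⊤)).op z) hs
      simp only [map_zero, SuppFamLib.res_res] at this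
      exact this
    refine ⟨cokernel.desc _ _ hz, ?_⟩
    rw [← cancel_mono (kernel.ι _), homZqHom_ι, cokernel.π_desc]

/-- `Γ(X, Γ_Z(-)) ≅ Hom(ℤ_X/ℤ_U, -)`. -/
def gammaIso : LocCohZ.sectSuppF U ⋙ homFrom (CohCx.freeSheaf JX (⊤ : Opens X)) ≅
    homFrom (LocCohZ.zq (le_top : U ≤ ⊤)) :=
  (NatIso.ofComponents (fun F => AddEquiv.toAddCommGrpIso (AddEquiv.ofBijective _ (homZqHom_bijective U F)))
    fun {F G} g => by
      ext a
      show homZqHom U G (a ≫ g) = homZqHom U F a ≫ (LocCohZ.sectSuppF U).map g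
      rw [← cancel_mono (kernel.ι _), homZqHom_ι, Category.assoc]
      refine Eq.trans ?_ (congrArg (homZqHom U F a ≫ ·) (kernel.lift_ι _ _ _).symm)
      exact (Category.assoc _ _ _).symm.trans ((congrArg (· ≫ g) (homZqHom_ι U F a).symm).trans (Category.assoc _ _ _))).symm

/-- The spectral sequence. -/
theorem exists_ss (F : CohTop.Ab X) :
    ∃ (E : E₂CohomologicalSpectralSequence AddCommGrpCat.{u})
      (a : SpSeq.Abutment E (fun n : ℤ =>
        if 0 ≤ n then AddCommGrpCat.of (LocCohZ.HZc F n.toNat U) else AddCommGrpCat.of PUnit.{u + 1})),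
      (∀ n : ℤ, a.IsFinite n) ∧ SpSeq.IsBounded E ∧
      ∀ p q : ℤ, Nonempty ((E.page 2 le_rfl).X (p, q) ≅
        (if 0 ≤ p ∧ 0 ≤ q then AddCommGrpCat.of (CohTop.HU ((LocCohZ.HZsh U q.toNat).obj F) p.toNat ⊤)
          else AddCommGrpCat.of PUnit.{u + 1})) := by
  refine exists_grothendieck_spectralSequence' (LocCohZ.sectSuppF U) (homFrom (CohCx.freeSheaf JX (⊤ : Opens X)))
    (fun Q hQ i hi => ?_) F
    (fun n => AddCommGrpCat.of (LocCohZ.HZc F n U))
    (fun n => ⟨(SiteBase.rightDerivedCongr (gammaIso U) n).app F ≪≫ rightDerivedHomFromIso _ n F⟩)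
    (fun p q => AddCommGrpCat.of (CohTop.HU ((LocCohZ.HZsh U q).obj F) p ⊤))
    (fun p q => ⟨rightDerivedHomFromIso _ p _⟩)
    _ (AddCommGrpCat.isZero_of_subsingleton _)
  obtain ⟨j, rfl⟩ := Nat.exists_eq_succ_of_ne_zero hi.ne'
  haveI := hQ
  haveI := SiteBase.isFlasque_of_injective Q
  haveI := GrLib8.SuppFlasque.isFlasque_sectSupp Q U
  refine IsZero.of_iso ?_ (rightDerivedHomFromIso _ (j + 1) _)
  haveI := SiteBase.subsingleton_HU_of_isFlasque ((LocCohZ.sectSuppF U).obj Q) ⊤ j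
  exact @AddCommGrpCat.isZero_of_subsingleton _ (inferInstanceAs (Subsingleton (CohTop.HU ((LocCohZ.sectSuppF U).obj Q) (j + 1) ⊤)))

end Groth.Agent.LocCohZSh
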