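import Groth.Agent.LocCohZSh.SS

/-!
# The Leray spectral sequence for cohomology with supports
-/

set_option autoImplicit false
set_option linter.style.haveILetI false
set_option backward.isDefEq.respectTransparency false
set_option backward.isDefEq.respectTransparency.types false

universe u

open CategoryTheory CategoryTheory.Limits Opposite TopologicalSpace TopCat

noncomputable section

namespace Groth.Agent.LocCohZSh

open SpObjSS

variable {X Y : TopCat.{u}} (f : X ⟶ Y) (V : Opens Y)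

/-- Morphisms out of `ℤ_W/ℤ_V` are sections with supports. -/
def zqHomEquiv {Z : TopCat.{u}} (F : CohTop.Ab Z) {W T : Opens Z} (h : W ≤ T) :
    (LocCohZ.zq h ⟶ F) ≃+ LocCohZ.sectZ F h :=
  Abelian.Ext.addEquiv₀.symm.trans (LocCohZ.sect0Equiv F h)

theorem zqHomEquiv_val {Z : TopCat.{u}} (F : CohTop.Ab Z) {W T : Opens Z} (h : W ≤ T) (φ : LocCohZ.zq h ⟶ F) :
    (zqHomEquiv F h φ).1 = CohFree.evalGen (Opens.grothendieckTopology Z) T F (cokernel.π _ ≫ φ) := by
  show CohFree.evalGen (Opens.grothendieckTopology Z) T F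
    (cokernel.π _ ≫ Abelian.Ext.addEquiv₀ (Abelian.Ext.addEquiv₀.symm φ)) = _
  rw [AddEquiv.apply_symm_apply]

/-- Sections with supports of a direct image. -/
def sectZPush (G : CohTop.Ab X) :
    LocCohZ.sectZ ((CohTop.push f).obj G) (le_top : V ≤ ⊤) ≃+
      LocCohZ.sectZ G (le_top : (Opens.map f).obj V ≤ ⊤) where
  toFun s := ⟨s.1, s.2⟩
  invFun s := ⟨s.1, s.2⟩
  left_inv _ := rfl
  right_inv _ := rfl
  map_add' _ _ := rfl

theorem evalGen_comp {Z : TopCat.{u}} (T : Opens Z) {F G : CohTop.Ab Z} (g : F ⟶ G)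
    (φ : CohCx.freeSheaf (Opens.grothendieckTopology Z) T ⟶ F) :
    CohFree.evalGen (Opens.grothendieckTopology Z) T G (φ ≫ g) =
      (g.hom.app (op T)).hom (CohFree.evalGen (Opens.grothendieckTopology Z) T F φ) := rfl

/-- `Γ_{Y'}(Y, f_* -) ≅ Γ_{X'}(X, -)`. -/
def gammaPushIso : CohTop.push f ⋙ homFrom (LocCohZ.zq (le_top : V ≤ ⊤)) ≅
    homFrom (LocCohZ.zq (le_top : (Opens.map f).obj V ≤ ⊤)) :=
  NatIso.ofComponents (fun G => AddEquiv.toAddCommGrpIso
      ((zqHomEquiv _ _).trans ((sectZPush f V G).trans (zqHomEquiv G _).symm)))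
    fun {G G'} g => by
      ext a
      apply (zqHomEquiv G' (le_top : (Opens.map f).obj V ≤ ⊤)).injective
      refine (AddEquiv.apply_symm_apply _ _).trans ?_
      apply Subtype.ext
      let b := (zqHomEquiv G (le_top : (Opens.map f).obj V ≤ ⊤)).symm (sectZPush f V G (zqHomEquiv _ _ a))
      have hb : (g.hom.app (op (⊤ : Opens X))).hom (zqHomEquiv G (le_top : (Opens.map f).obj V ≤ ⊤) b).1 =
          (g.hom.app (op (⊤ : Opens X))).hom (zqHomEquiv _ _ a).1 := by
        rw [show zqHomEquiv G (le_top : (Opens.map f).obj V ≤ ⊤) b = sectZPush f V G (zqHomEquiv _ _ a) from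
          AddEquiv.apply_symm_apply _ _]
        rfl
      show (zqHomEquiv ((CohTop.push f).obj G') (le_top : V ≤ ⊤) (a ≫ (CohTop.push f).map g)).1 =
        (zqHomEquiv G' (le_top : (Opens.map f).obj V ≤ ⊤) (b ≫ g)).1
      rw [zqHomEquiv_val, zqHomEquiv_val, ← Category.assoc, ← Category.assoc,
        evalGen_comp (⊤ : Opens Y) ((CohTop.push f).map g) (cokernel.π _ ≫ a),
        evalGen_comp (⊤ : Opens X) g (cokernel.π _ ≫ b), ← zqHomEquiv_val, ← zqHomEquiv_val]
      exact hb.symm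

/-- The spectral sequence. -/
theorem exists_ss_push (F : CohTop.Ab X) :
    ∃ (E : E₂CohomologicalSpectralSequence AddCommGrpCat.{u})
      (a : SpSeq.Abutment E (fun n : ℤ =>
        if 0 ≤ n then AddCommGrpCat.of (LocCohZ.HZc F n.toNat ((Opens.map f).obj V))
          else AddCommGrpCat.of PUnit.{u + 1})),
      (∀ n : ℤ, a.IsFinite n) ∧ SpSeq.IsBounded E ∧
      ∀ p q : ℤ, Nonempty ((E.page 2 le_rfl).X (p, q) ≅
        (if 0 ≤ p ∧ 0 ≤ q then AddCommGrpCat.of (LocCohZ.HZc ((CohTop.Rpush f q.toNat).obj F) p.toNat V)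
          else AddCommGrpCat.of PUnit.{u + 1})) := by
  refine exists_grothendieck_spectralSequence' (CohTop.push f) (homFrom (LocCohZ.zq (le_top : V ≤ ⊤)))
    (fun Q hQ => ?_) F
    (fun n => AddCommGrpCat.of (LocCohZ.HZc F n ((Opens.map f).obj V)))
    (fun n => ⟨(SiteBase.rightDerivedCongr (gammaPushIso f V) n).app F ≪≫ rightDerivedHomFromIso _ n F⟩)
    (fun p q => AddCommGrpCat.of (LocCohZ.HZc ((CohTop.Rpush f q).obj F) p V))
    (fun p q => ⟨rightDerivedHomFromIso _ p _⟩)
    _ (AddCommGrpCat.isZero_of_subsingleton _)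
  haveI := hQ
  haveI := SiteBase.injective_push f Q
  exact TriCat.isRightAcyclic_of_injective _

end Groth.Agent.LocCohZSh
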